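import Groth.Agent.WeilKerLib.Ker
import Groth.Agent.S3278
import Groth.Agent.GrpQuotLib.KerGrp
import Groth.Agent.GrpQuotLib.Descend
import Groth.Agent.GrpQuotLib.Orbit
import Groth.Agent.GrpSchLib.Component
import Groth.Agent.FpqcDesc.Basic
import Groth.Agent.FpqcDesc.Stalk
import Groth.Prelude.Def_RedSub

/-!
# The cokernel of the comparison map into a commutative Weil restriction
-/

set_option autoImplicit false
set_option backward.isDefEq.respectTransparency false
universe u

open CategoryTheory CategoryTheory.Limits AlgebraicGeometry MonoidalCategory CartesianMonoidalCategory MonObj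
open WeilPtsLib Groth.Agent

noncomputable section

namespace WeilKerLib

attribute [-instance] CategoryTheory.Hom.commGroup

/-- A commutative quotient of an affine group of finite type is affine. -/
theorem isAffine_of_fpqc_hom {F : Type u} [Field F] {K Q : Over (Spec (CommRingCat.of F))} [GrpObj K] [GrpObj Q]
    [IsAffine K.left] [LocallyOfFiniteType K.hom] (hcomm : ∀ (T : Over (Spec (CommRingCat.of F))) (a b : T ⟶ K), a * b = b * a)
    (f : K ⟶ Q) [IsMonHom f] [Flat f.left] [Surjective f.left] : IsAffine Q.left := by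
  obtain ⟨hN, ha⟩ := GrpQuotLib.exists_grpObj_kernel f
  letI := hN
  let i := pullback.fst f η[Q]
  haveI : IsClosedImmersion η[Q].left := GrpSchLib.isClosedImmersion_unit
  have hsq := GrpQuotLib.isPullback_left (IsPullback.of_hasPullback f η[Q])
  haveI : IsClosedImmersion i.left := MorphismProperty.of_isPullback hsq.flip ‹IsClosedImmersion η[Q].left›
  have hker : AlgGrp.IsKernel i f := by
    have h := IsPullback.of_hasPullback f η[Q]
    rwa [toUnit_unique (pullback.snd f η[Q]) (toUnit _)] at h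
  obtain ⟨Q₁, hQ₁, q₁, hq₁, hQ₁a, hQ₁l, hq₁f, hq₁s, hker₁⟩ := S3278.result F K (pullback f η[Q]) i
    (fun T g n => ⟨n, by rw [hcomm T g (n ≫ i), mul_inv_cancel_right]⟩)
  letI := hQ₁
  haveI := hq₁; haveI := hQ₁a; haveI := hq₁f; haveI := hq₁s
  haveI : IsSeparated Q.hom := GrpSchLib.isSeparated_hom
  haveI : QuasiCompact (f.left ≫ Q.hom) := by rw [Over.w]; infer_instance
  haveI : QuasiCompact f.left := QuasiCompact.of_comp f.left Q.hom
  haveI : SchDesc.IsFpqc f.left := SchDesc.IsFpqc.of_quasiCompact _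
  haveI : IsSeparated Q₁.hom := GrpSchLib.isSeparated_hom
  haveI : QuasiCompact (q₁.left ≫ Q₁.hom) := by rw [Over.w]; infer_instance
  haveI : QuasiCompact q₁.left := QuasiCompact.of_comp q₁.left Q₁.hom
  haveI : SchDesc.IsFpqc q₁.left := SchDesc.IsFpqc.of_quasiCompact _
  have hiff : ∀ {T : Over (Spec (CommRingCat.of F))} {Z : Over (Spec (CommRingCat.of F))} [GrpObj Z] (g : K ⟶ Z)
      [IsMonHom g] (_ : AlgGrp.IsKernel i g) (u v : T ⟶ K), u ≫ g = v ≫ g ↔ ∃ m, m ≫ i = v⁻¹ * u := by
    intro T Z _ g _ hg u v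
    refine ⟨fun e => ⟨hg.lift _ (toUnit T) ?_, hg.lift_fst _ _ _⟩, fun ⟨m, hm⟩ => ?_⟩
    · rw [MonObj.mul_comp, GrpObj.inv_comp, e, inv_mul_cancel, Hom.one_def]
    · have h1 : (v⁻¹ * u) ≫ g = 1 := by
        rw [← hm, Category.assoc, hg.w, ← Category.assoc, Hom.one_def, toUnit_unique (m ≫ toUnit _) (toUnit T)]
      rw [MonObj.mul_comp, GrpObj.inv_comp, inv_mul_eq_one] at h1
      exact h1.symm
  obtain ⟨ψ, hψ⟩ := GrpQuotLib.exists_desc q₁ f (fun T u v e => (hiff f hker u v).2 ((hiff q₁ hker₁ u v).1 e))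
  obtain ⟨ψ', hψ'⟩ := GrpQuotLib.exists_desc f q₁ (fun T u v e => (hiff q₁ hker₁ u v).2 ((hiff f hker u v).1 e))
  haveI : Epi q₁ := GrpQuotLib.epi_of_isFpqc q₁
  haveI : Epi f := GrpQuotLib.epi_of_isFpqc f
  haveI : IsIso ψ := ⟨ψ', by rw [← cancel_epi q₁, ← Category.assoc, hψ, hψ', Category.comp_id],
    by rw [← cancel_epi f, ← Category.assoc, hψ', hψ, Category.comp_id]⟩
  haveI : IsIso ψ.left := inferInstanceAs (IsIso ((Over.forget _).map ψ))
  exact IsAffine.of_isIso (inv ψ.left)

variable {k k' : Type u} [Field k] [Field k'] [Algebra k k']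

local notation "φ" => Spec.map (CommRingCat.ofHom (algebraMap k k'))

theorem isPullback_bc_map {X Y : Over (Spec (CommRingCat.of k))} (g : X ⟶ Y) :
    IsPullback ((Over.pullback φ).map g).left (pullback.fst X.hom φ) (pullback.fst Y.hom φ) g.left := by
  have h : ((Over.pullback φ).map g).left ≫ pullback.fst Y.hom φ = pullback.fst X.hom φ ≫ g.left :=
    pullback.lift_fst _ _ _
  refine IsPullback.of_right ?_ h (IsPullback.of_hasPullback Y.hom φ).flip
  rw [Over.w g, show ((Over.pullback φ).map g).left ≫ pullback.snd Y.hom φ = pullback.snd X.hom φ from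
    pullback.lift_snd _ _ _]
  exact (IsPullback.of_hasPullback X.hom φ).flip

variable [Module.Finite k k'] [IsPurelyInseparable k k']

/-- The cokernel of the comparison map is affine and killed by a positive integer. -/
theorem quotient_props {G : Over (Spec (CommRingCat.of k))} [GrpObj G]
    {Gbar : Over (Spec (CommRingCat.of k'))} [GrpObj Gbar] [LocallyOfFiniteType Gbar.hom] [IsCommMonObj Gbar]
    {q : Red.bc φ G ⟶ Gbar} [IsMonHom q] [Surjective q.left] [Flat q.left]
    {R : Over (Spec (CommRingCat.of k))} [GrpObj R] {qR : Red.bc φ R ⟶ Gbar} [IsMonHom qR]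
    (hR : WeilRes.IsWeilRes φ Gbar R qR)
    (c : G ⟶ R) [IsMonHom c] (hc : (Over.pullback φ).map c ≫ qR = q)
    {Q : Over (Spec (CommRingCat.of k))} [GrpObj Q] (π : R ⟶ Q) [IsMonHom π]
    [Surjective π.left] [Flat π.left] (hcπ : c ≫ π = 1) :
    IsAffine Q.left ∧ ∃ M : ℕ, M ≠ 0 ∧ (𝟙 Q) ^ M = 1 := by
  let adj := Over.mapPullbackAdj φ
  have hcommR : ∀ {T : Over (Spec (CommRingCat.of k))} (a b : T ⟶ R), a * b = b * a := fun a b =>
    (hR.restrMulEquiv _ _).injective (by
      rw [map_mul, map_mul]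
      show lift _ _ ≫ μ[Gbar] = lift _ _ ≫ μ[Gbar]
      rw [← lift_braiding_hom, Category.assoc, IsCommMonObj.mul_comm])
  have hcomm : ∀ {T : Over (Spec (CommRingCat.of k'))} (a b : T ⟶ Red.bc φ R), a * b = b * a := fun {T} a b => by
    obtain ⟨pa, rfl⟩ := (adj.homEquiv T R).surjective a
    obtain ⟨pb, rfl⟩ := (adj.homEquiv T R).surjective b
    rw [adj.homEquiv_unit, adj.homEquiv_unit, ← MonObj.comp_mul, ← Functor.map_mul, hcommR, Functor.map_mul,
      MonObj.comp_mul]
  obtain ⟨hK, hiK⟩ := GrpQuotLib.exists_grpObj_kernel qR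
  letI := hK
  let iK := pullback.fst qR η[Gbar]
  haveI : IsMonHom iK := hiK
  have hker : AlgGrp.IsKernel iK qR := by
    have h := IsPullback.of_hasPullback qR η[Gbar]
    rwa [toUnit_unique (pullback.snd qR η[Gbar]) (toUnit _)] at h
  haveI : Mono η[Gbar] := SplitMono.mono ⟨toUnit Gbar, toUnit_unique _ _⟩
  have hcommK : ∀ (T : Over (Spec (CommRingCat.of k'))) (a b : T ⟶ pullback qR η[Gbar]), a * b = b * a :=
    fun T a b => (cancel_mono iK).1 (by rw [MonObj.mul_comp, MonObj.mul_comp, hcomm])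
  obtain ⟨D⟩ := exists_data hR hker
  obtain ⟨haff, hci⟩ := D.isAffine
  haveI := haff
  haveI := hci
  haveI : LocallyOfFiniteType (pullback qR η[Gbar]).hom := by
    haveI : IsAffine (specOver k' D.AX).left := inferInstanceAs (IsAffine (Spec (CommRingCat.of D.AX)))
    haveI : LocallyOfFiniteType (specOver k' D.AX).hom :=
      Over.w D.jU ▸ inferInstanceAs (LocallyOfFiniteType (D.jU.left ≫ Gbar.hom))
    haveI := lfp_weil (specOver k' D.AX) D.Ru D.e D.he
    haveI : LocallyOfFiniteType ((WeilPtsLib.bc k k').obj D.Ru).hom :=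
      inferInstanceAs (LocallyOfFiniteType (pullback.snd D.Ru.hom φ))
    rw [← Over.w D.aK]
    infer_instance
  obtain ⟨M, hM0, hM⟩ := D.exists_pow hR hker
  let G' := Red.bc φ G
  let i' : G' ⟶ Red.bc φ R := (Over.pullback φ).map c
  let πk : Red.bc φ R ⟶ Red.bc φ Q := (Over.pullback φ).map π
  haveI : IsMonHom πk := inferInstanceAs (IsMonHom ((Over.pullback φ).map π))
  let f := iK ≫ πk
  haveI : IsMonHom f := inferInstanceAs (IsMonHom (iK ≫ πk))
  let P := pullback qR η[Gbar] ⊗ G'
  let m : P ⟶ Red.bc φ R := (fst _ _ ≫ iK) * (snd _ _ ≫ i')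
  have hiK1 : iK ≫ qR = 1 := by rw [hker.w, Hom.one_def]
  have hm : m ≫ qR = snd _ _ ≫ q := by
    rw [MonObj.mul_comp, Category.assoc, hiK1, MonObj.comp_one, _root_.one_mul, Category.assoc, hc]
  have key : ∀ s : PullbackCone qR q, ∃ l : s.pt ⟶ pullback qR η[Gbar], l ≫ iK = s.fst * (s.snd ≫ i')⁻¹ := fun s =>
    ⟨hker.lift _ (toUnit _) (by
      rw [MonObj.mul_comp, GrpObj.inv_comp, s.condition, Category.assoc, hc, mul_inv_cancel, Hom.one_def]),
      hker.lift_fst _ _ _⟩
  choose l hl using key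
  have hsq : IsPullback m (snd _ _) qR q := by
    refine ⟨⟨hm⟩, ⟨PullbackCone.IsLimit.mk hm (fun s => lift (l s) s.snd) (fun s => ?_) (fun s => lift_snd _ _)
      fun s t h₁ h₂ => ?_⟩⟩
    · rw [MonObj.comp_mul, lift_fst_assoc, lift_snd_assoc, hl, inv_mul_cancel_right]
    · apply CartesianMonoidalCategory.hom_ext
      · rw [lift_fst, ← cancel_mono iK, hl, Category.assoc, ← h₁, MonObj.comp_mul]
        rw [← Category.assoc t (snd _ _) i', h₂, mul_inv_cancel_right]
      · rw [lift_snd, h₂]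
  have hsql := GrpQuotLib.isPullback_left hsq
  haveI : Flat m.left := MorphismProperty.of_isPullback hsql.flip ‹Flat q.left›
  haveI : Surjective m.left := MorphismProperty.of_isPullback hsql.flip ‹Surjective q.left›
  haveI : Flat πk.left := MorphismProperty.of_isPullback (isPullback_bc_map π).flip ‹Flat π.left›
  haveI : Surjective πk.left := MorphismProperty.of_isPullback (isPullback_bc_map π).flip ‹Surjective π.left›
  have hmf : m ≫ πk = fst _ _ ≫ f := by
    rw [MonObj.mul_comp, Category.assoc, Category.assoc, show i' ≫ πk = (1 : G' ⟶ Red.bc φ Q) by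
      show (Over.pullback φ).map c ≫ (Over.pullback φ).map π = _
      rw [← Functor.map_comp, hcπ, Functor.map_one], MonObj.comp_one, _root_.mul_one]
  let pr : P.left ⟶ (pullback qR η[Gbar]).left := (fst (pullback qR η[Gbar]) G').left
  haveI : Flat G'.hom := inferInstance
  haveI : Surjective G'.hom :=
    ⟨fun s => ⟨η[G'].left (IsLocalRing.closedPoint k'), Subsingleton.elim (α := PrimeSpectrum k') _ _⟩⟩
  haveI : Flat pr := MorphismProperty.pullback_fst (pullback qR η[Gbar]).hom G'.hom ‹Flat G'.hom›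
  haveI : Surjective pr := MorphismProperty.pullback_fst (pullback qR η[Gbar]).hom G'.hom ‹Surjective G'.hom›
  have hcomp : m.left ≫ πk.left = pr ≫ f.left := congrArg CommaMorphism.left hmf
  haveI : Flat (pr ≫ f.left) := hcomp ▸ inferInstanceAs (Flat (m.left ≫ πk.left))
  haveI : Surjective (pr ≫ f.left) := hcomp ▸ inferInstanceAs (Surjective (m.left ≫ πk.left))
  haveI : Flat f.left := FlatDescStalk.flat_of_comp pr f.left
  haveI : Surjective f.left := Surjective.of_comp pr f.left
  haveI := isAffine_of_fpqc_hom (fun T => hcommK T) f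
  have hQk : (𝟙 (Red.bc φ Q)) ^ M = 1 := by
    haveI : IsSeparated (Red.bc φ Q).hom := GrpSchLib.isSeparated_hom
    haveI : QuasiCompact (f.left ≫ (Red.bc φ Q).hom) := by rw [Over.w]; infer_instance
    haveI : QuasiCompact f.left := QuasiCompact.of_comp f.left (Red.bc φ Q).hom
    haveI : SchDesc.IsFpqc f.left := SchDesc.IsFpqc.of_quasiCompact _
    haveI : Epi f := GrpQuotLib.epi_of_isFpqc f
    rw [← cancel_epi f, MonObj.comp_pow, Category.comp_id, MonObj.comp_one,
      show f = 𝟙 _ ≫ f from (Category.id_comp f).symm, ← MonObj.pow_comp, hM, MonObj.one_comp]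
  haveI : Surjective φ :=
    ⟨fun s => ⟨IsLocalRing.closedPoint k', Subsingleton.elim (α := PrimeSpectrum k) _ _⟩⟩
  haveI := FpqcDesc.isAffineHom_descends.{u}
  have hQa : IsAffineHom Q.hom :=
    MorphismProperty.of_isPullback_of_descendsAlong (P := @IsAffineHom) (Q := @Surjective ⊓ @Flat ⊓ @QuasiCompact)
      (IsPullback.of_hasPullback Q.hom φ).flip ⟨⟨inferInstance, inferInstance⟩, inferInstance⟩
      (inferInstanceAs (IsAffineHom (Red.bc φ Q).hom))
  refine ⟨isAffine_of_isAffineHom Q.hom, M, hM0, ?_⟩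
  let pQ : (Red.bc φ Q).left ⟶ Q.left := pullback.fst Q.hom φ
  haveI : Flat pQ := MorphismProperty.pullback_fst Q.hom φ inferInstance
  haveI : Surjective pQ := MorphismProperty.pullback_fst Q.hom φ inferInstance
  haveI : QuasiCompact pQ := MorphismProperty.pullback_fst Q.hom φ inferInstance
  haveI : SchDesc.IsFpqc pQ := SchDesc.IsFpqc.of_quasiCompact _
  have hmap := map_pow_bc (k := k) (k' := k') (𝟙 Q) M
  rw [CategoryTheory.Functor.map_id, hQk, ← Functor.map_one (F := Over.pullback φ)] at hmap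
  have h := congrArg (fun t : Red.bc φ Q ⟶ Red.bc φ Q => t.left ≫ pQ) hmap
  refine Over.OverMorphism.ext ((cancel_epi pQ).1 ?_)
  exact (pullback.lift_fst _ _ _).symm.trans (h.trans (pullback.lift_fst _ _ _))

end WeilKerLib
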